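import Cfsg.Agent.Spor.J4P.L.D0

set_option autoImplicit false
set_option maxRecDepth 100000000
set_option Elab.async false

namespace Cfsg.Agent.Spor.J4P.L

theorem uok2 : Net.okb 5 un2 = true := by decide +kernel

theorem rel3 : U.rel 5 [5, 1, 1, 1, 3, 1, 3, 1, 3, 1, 1, 3, 3, 1, 1, 3, 3, 1] 0 5 = true := by decide +kernel

theorem uok3 : Net.okb 5 un3 = true := by decide +kernel

theorem rel4 : U.rel 5 [7, 3, 1, 3, 3, 1, 3, 1, 3, 1, 3, 1, 3, 3] 0 5 = true := by decide +kernel

theorem gr5 : sub 0xffffff (U.growI W1 [0, 1, 1, 0, 1, 1, 0, 1, 1, 0] (Nat.shiftLeft 1 0)) = true := by decide +kernel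

theorem cl7 : band (U.closedW W1 0xffffff) (sub (Nat.shiftLeft 1 0) 0xffffff) = true := by decide +kernel

theorem sz8 : sizeOk 5 0xffffff 24 = true := by decide +kernel

theorem fx11 : U.closedW W10 (Nat.shiftLeft 1 0) = true := by decide +kernel

theorem uok4 : Net.okb 5 un4 = true := by decide +kernel

theorem rel12 : U.rel 5 [9, 7, 7, 7, 7, 5, 5, 5, 7, 5, 5, 5, 5, 7, 7] 0 5 = true := by decide +kernel

theorem uok5 : Net.okb 5 un5 = true := by decide +kernel

theorem rel13 : U.rel 5 [11, 7, 7, 7, 5, 5, 5, 7, 5, 5, 5, 5, 7, 5, 5, 7, 7, 7, 5] 0 5 = true := by decide +kernel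

theorem gr14 : sub 0xfffffe (U.growI W10 [0, 1, 1, 0, 0, 1, 1, 0, 0, 1, 1] (Nat.shiftLeft 1 1)) = true := by decide +kernel

theorem cl16 : band (U.closedW W10 0xfffffe) (sub (Nat.shiftLeft 1 1) 0xfffffe) = true := by decide +kernel

theorem sz17 : sizeOk 5 0xfffffe 23 = true := by decide +kernel

theorem fx20 : U.closedW W19 (Nat.shiftLeft 1 1) = true := by decide +kernel

theorem uok6 : Net.okb 5 un6 = true := by decide +kernel

theorem rel21 : U.rel 5 [13, 11, 9, 11, 11, 9, 11, 11, 11, 11] 0 5 = true := by decide +kernel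

theorem uok7 : Net.okb 5 un7 = true := by decide +kernel

theorem rel22 : U.rel 5 [15, 9, 11, 9, 11, 9, 9, 9, 11, 11, 9, 9, 9] 0 5 = true := by decide +kernel

theorem gr23 : sub 0xfffffc (U.growI W19 [0, 1, 1, 0, 0, 1, 1, 0, 0] (Nat.shiftLeft 1 2)) = true := by decide +kernel

theorem cl25 : band (U.closedW W19 0xfffffc) (sub (Nat.shiftLeft 1 2) 0xfffffc) = true := by decide +kernel

theorem sz26 : sizeOk 5 0xfffffc 22 = true := by decide +kernel

theorem fx29 : U.closedW W28 (Nat.shiftLeft 1 2) = true := by decide +kernel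

theorem uok8 : Net.okb 5 un8 = true := by decide +kernel

theorem rel30 : U.rel 5 [17, 13, 15, 15, 15, 15, 15, 13, 15, 15, 15] 0 5 = true := by decide +kernel

theorem uok9 : Net.okb 5 un9 = true := by decide +kernel

theorem rel31 : U.rel 5 [19, 15, 15, 15, 15, 15, 13, 13, 13, 15, 13, 13, 13, 15, 13, 15, 13] 0 5 = true := by decide +kernel

theorem gr32 : sub 0xfffff8 (U.growI W28 [0, 1, 1, 0, 0, 1, 1] (Nat.shiftLeft 1 3)) = true := by decide +kernel

theorem cl34 : band (U.closedW W28 0xfffff8) (sub (Nat.shiftLeft 1 3) 0xfffff8) = true := by decide +kernel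

theorem sz35 : sizeOk 5 0xfffff8 21 = true := by decide +kernel

theorem fx38 : U.closedW W37 (Nat.shiftLeft 1 3) = true := by decide +kernel

theorem uok10 : Net.okb 5 un10 = true := by decide +kernel

theorem rel39 : U.rel 5 [21, 17, 19, 17, 17, 19, 19, 17, 19, 19, 17, 19] 0 5 = true := by decide +kernel

theorem uok11 : Net.okb 5 un11 = true := by decide +kernel

theorem rel40 : U.rel 5 [23, 17, 19, 19, 19, 17, 17, 19, 19, 19, 17, 17, 19, 19, 17, 17, 19, 17, 19, 19, 17, 19, 17, 17, 19, 19, 17] 0 5 = true := by decide +kernel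

theorem uok12 : Net.okb 5 un12 = true := by decide +kernel

theorem rel41 : U.rel 5 [25, 19, 19, 19, 19, 17, 19, 19, 19, 17, 17, 17, 19, 19, 19, 19, 17, 19, 17, 19, 17, 17, 17, 19, 19, 17, 17, 17, 17, 19, 19, 19, 19, 19, 17] 0 5 = true := by decide +kernel

theorem gr42 : sub 0xfffff0 (U.growI W37 [0, 1, 1, 0, 0, 1, 1, 0] (Nat.shiftLeft 1 4)) = true := by decide +kernel

theorem cl44 : band (U.closedW W37 0xfffff0) (sub (Nat.shiftLeft 1 4) 0xfffff0) = true := by decide +kernel

theorem sz45 : sizeOk 5 0xfffff0 20 = true := by decide +kernel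

theorem fx48 : U.closedW W47 (Nat.shiftLeft 1 4) = true := by decide +kernel

theorem gr49 : sub 0xffeb60 (U.growI W47 [1, 2, 1, 0, 0] (Nat.shiftLeft 1 22)) = true := by decide +kernel

theorem cl51 : band (U.closedW W47 0xffeb60) (sub (Nat.shiftLeft 1 22) 0xffeb60) = true := by decide +kernel

theorem sz52 : sizeOk 5 0xffeb60 16 = true := by decide +kernel

theorem fx55 : U.closedW W54 (Nat.shiftLeft 1 22) = true := by decide +kernel

theorem gr56 : sub 0x108020 (U.growI W54 [0, 0] (Nat.shiftLeft 1 5)) = true := by decide +kernel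

theorem cl58 : band (U.closedW W54 0x108020) (sub (Nat.shiftLeft 1 5) 0x108020) = true := by decide +kernel

theorem sz59 : sizeOk 5 0x108020 3 = true := by decide +kernel

end Cfsg.Agent.Spor.J4P.L
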