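import Cfsg.Agent.Spor.Prim
import Cfsg.Agent.Spor.J4P.Main
import Cfsg.Agent.Spor.J4P.L.C0
import Cfsg.Agent.Spor.TT2

set_option autoImplicit false
set_option maxRecDepth 100000000
set_option Elab.async false

namespace Cfsg.Agent.Spor.J4P.L

theorem hU : U.Ok 5 := U.ok_of 5 (show AllP (fun n => Net.okb 5 n = true) [n0, n1, un2, un3, un4, un5, un6, un7, un8, un9, un10, un11, un12] from AllP.cons ok0 (AllP.cons ok1 (AllP.cons uok2 (AllP.cons uok3 (AllP.cons uok4 (AllP.cons uok5 (AllP.cons uok6 (AllP.cons uok7 (AllP.cons uok8 (AllP.cons uok9 (AllP.cons uok10 (AllP.cons uok11 (AllP.cons uok12 (AllP.nil))))))))))))))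

theorem hfP : ∀ j < 2, U.fP [1, 3] j = fP j := by
  intro j hj
  interval_cases j <;> rfl
theorem eG : gsub 2 fP = U.lsub W1 := (gsub_congr hfP).symm.trans (lsub_eq_gsub U [1, 3])
theorem upz1 : ev (atm 2 fP) [0] = U.τ 1 := pz1
theorem upz3 : ev (atm 2 fP) [2] = U.τ 3 := pz2
theorem eH : wsub 2 fP BW = U.lsub W2 :=
  lsub_eq_of_all₂ (show List.Forall₂ _ [] [] from List.Forall₂.nil)
theorem reach6 : Reach (U.lsub W1) 0 0xffffff := (Reach.grow hU (Reach.base _ 0) gr5)
theorem orb9 : (orbS (U.lsub W1) 0).ncard = 24 := reach6.ncard hU cl7 sz8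
theorem orb9e : orbS (U.lsub W1) 0 = {c | Nat.testBit 0xffffff c = true} := reach6.orb hU cl7
theorem reach15 : Reach (U.lsub W10) 1 0xfffffe := (Reach.grow hU (Reach.base _ 1) gr14)
theorem orb18 : (orbS (U.lsub W10) 1).ncard = 23 := reach15.ncard hU cl16 sz17
theorem orb18e : orbS (U.lsub W10) 1 = {c | Nat.testBit 0xfffffe c = true} := reach15.orb hU cl16
theorem reach24 : Reach (U.lsub W19) 2 0xfffffc := (Reach.grow hU (Reach.base _ 2) gr23)
theorem orb27 : (orbS (U.lsub W19) 2).ncard = 22 := reach24.ncard hU cl25 sz26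
theorem orb27e : orbS (U.lsub W19) 2 = {c | Nat.testBit 0xfffffc c = true} := reach24.orb hU cl25
theorem reach33 : Reach (U.lsub W28) 3 0xfffff8 := (Reach.grow hU (Reach.base _ 3) gr32)
theorem orb36 : (orbS (U.lsub W28) 3).ncard = 21 := reach33.ncard hU cl34 sz35
theorem orb36e : orbS (U.lsub W28) 3 = {c | Nat.testBit 0xfffff8 c = true} := reach33.orb hU cl34
theorem reach43 : Reach (U.lsub W37) 4 0xfffff0 := (Reach.grow hU (Reach.base _ 4) gr42)
theorem orb46 : (orbS (U.lsub W37) 4).ncard = 20 := reach43.ncard hU cl44 sz45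
theorem orb46e : orbS (U.lsub W37) 4 = {c | Nat.testBit 0xfffff0 c = true} := reach43.orb hU cl44
theorem reach50 : Reach (U.lsub W47) 22 0xffeb60 := (Reach.grow hU (Reach.base _ 22) gr49)
theorem orb53 : (orbS (U.lsub W47) 22).ncard = 16 := reach50.ncard hU cl51 sz52
theorem orb53e : orbS (U.lsub W47) 22 = {c | Nat.testBit 0xffeb60 c = true} := reach50.orb hU cl51
theorem reach57 : Reach (U.lsub W54) 5 0x108020 := (Reach.grow hU (Reach.base _ 5) gr56)
theorem orb60 : (orbS (U.lsub W54) 5).ncard = 3 := reach57.ncard hU cl58 sz59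
theorem orb60e : orbS (U.lsub W54) 5 = {c | Nat.testBit 0x108020 c = true} := reach57.orb hU cl58
theorem lb61 : 3 ∣ Nat.card (U.lsub W54) := dvd_card_orb orb60
theorem lb62 : 48 ∣ Nat.card (U.lsub W47) :=
  dvd_card_step (s := 16) (M := 3) (B := U.lsub W54) (U.lsub_sub (by decide)) (hU.fixes fx55) orb53 lb61
theorem lb63 : 960 ∣ Nat.card (U.lsub W37) :=
  dvd_card_step (s := 20) (M := 48) (B := U.lsub W47) (Tab.lsub_le_all (AllP.cons (mem_of_rel (hU.one rel39) (U.mem_letters (by decide))) (AllP.cons (mem_of_rel (hU.one rel40) (U.mem_letters (by decide))) (AllP.cons (mem_of_rel (hU.one rel41) (U.mem_letters (by decide))) (AllP.nil))))) (hU.fixes fx48) orb46 lb62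
theorem lb64 : 20160 ∣ Nat.card (U.lsub W28) :=
  dvd_card_step (s := 21) (M := 960) (B := U.lsub W37) (Tab.lsub_le_all (AllP.cons (mem_of_rel (hU.one rel30) (U.mem_letters (by decide))) (AllP.cons (mem_of_rel (hU.one rel31) (U.mem_letters (by decide))) (AllP.nil)))) (hU.fixes fx38) orb36 lb63
theorem lb65 : 443520 ∣ Nat.card (U.lsub W19) :=
  dvd_card_step (s := 22) (M := 20160) (B := U.lsub W28) (Tab.lsub_le_all (AllP.cons (mem_of_rel (hU.one rel21) (U.mem_letters (by decide))) (AllP.cons (mem_of_rel (hU.one rel22) (U.mem_letters (by decide))) (AllP.nil)))) (hU.fixes fx29) orb27 lb64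
theorem lb66 : 10200960 ∣ Nat.card (U.lsub W10) :=
  dvd_card_step (s := 23) (M := 443520) (B := U.lsub W19) (Tab.lsub_le_all (AllP.cons (mem_of_rel (hU.one rel12) (U.mem_letters (by decide))) (AllP.cons (mem_of_rel (hU.one rel13) (U.mem_letters (by decide))) (AllP.nil)))) (hU.fixes fx20) orb18 lb65
theorem lb : 244823040 ∣ Nat.card (U.lsub W1) :=
  dvd_card_step (s := 24) (M := 10200960) (B := U.lsub W10) (Tab.lsub_le_all (AllP.cons (mem_of_rel (hU.one rel3) (U.mem_letters (by decide))) (AllP.cons (mem_of_rel (hU.one rel4) (U.mem_letters (by decide))) (AllP.nil)))) (hU.fixes fx11) orb9 lb66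

end Cfsg.Agent.Spor.J4P.L
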