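import Cfsg.Agent.Spor.Chk2
import Cfsg.Agent.Spor.J4P.D0

set_option autoImplicit false
set_option maxRecDepth 100000000
set_option Elab.async false
noncomputable section

namespace Cfsg.Agent.Spor.J4P.L

def W1 : List (List Nat) := [[1], [3]]

def W2 : List (List Nat) := []

def um2_0 : Nat := nat_lit 0x617
def um2_1 : Nat := nat_lit 0x1400c1
def um2_2 : Nat := nat_lit 0x1020102
def um2_3 : Nat := nat_lit 0x1011012
def um2_4 : Nat := nat_lit 0x1414011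
def um2_5 : Nat := nat_lit 0x11011
def um2_6 : Nat := nat_lit 0x1080104
def um2_7 : Nat := nat_lit 0x140041
def um2_8 : Nat := nat_lit 0x617
def un2 : Net := Net.cons 16 um2_0 (Net.cons 8 um2_1 (Net.cons 4 um2_2 (Net.cons 2 um2_3 (Net.cons 1 um2_4 (Net.cons 2 um2_5 (Net.cons 4 um2_6 (Net.cons 8 um2_7 (Net.cons 16 um2_8 (Net.nil)))))))))

def um3_0 : Nat := nat_lit 0x2bd
def um3_1 : Nat := nat_lit 0x20042
def um3_2 : Nat := nat_lit 0x50d0a
def um3_3 : Nat := nat_lit 0x231100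
def um3_4 : Nat := nat_lit 0x54541
def um3_5 : Nat := nat_lit 0x1011
def um3_6 : Nat := nat_lit 0x10203
def um3_7 : Nat := nat_lit 0x4a
def um3_8 : Nat := nat_lit 0x241
def un3 : Net := Net.cons 16 um3_0 (Net.cons 8 um3_1 (Net.cons 4 um3_2 (Net.cons 2 um3_3 (Net.cons 1 um3_4 (Net.cons 2 um3_5 (Net.cons 4 um3_6 (Net.cons 8 um3_7 (Net.cons 16 um3_8 (Net.nil)))))))))

def W10 : List (List Nat) := [[5], [7]]

def um4_0 : Nat := nat_lit 0x2882
def um4_1 : Nat := nat_lit 0x9000e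
def um4_2 : Nat := nat_lit 0x2010805
def um4_3 : Nat := nat_lit 0x2211201
def um4_4 : Nat := nat_lit 0x1044440
def um4_5 : Nat := nat_lit 0x1120
def um4_6 : Nat := nat_lit 0x2050405
def um4_7 : Nat := nat_lit 0x1005c
def um4_8 : Nat := nat_lit 0x283e
def un4 : Net := Net.cons 16 um4_0 (Net.cons 8 um4_1 (Net.cons 4 um4_2 (Net.cons 2 um4_3 (Net.cons 1 um4_4 (Net.cons 2 um4_5 (Net.cons 4 um4_6 (Net.cons 8 um4_7 (Net.cons 16 um4_8 (Net.nil)))))))))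

def um5_0 : Nat := nat_lit 0x131
def um5_1 : Nat := nat_lit 0x100ac
def um5_2 : Nat := nat_lit 0x30600
def um5_3 : Nat := nat_lit 0x130000
def um5_4 : Nat := nat_lit 0x151014
def um5_5 : Nat := nat_lit 0x1021
def um5_6 : Nat := nat_lit 0x10209
def um5_7 : Nat := nat_lit 0x100c4
def um5_8 : Nat := nat_lit 0x165
def un5 : Net := Net.cons 16 um5_0 (Net.cons 8 um5_1 (Net.cons 4 um5_2 (Net.cons 2 um5_3 (Net.cons 1 um5_4 (Net.cons 2 um5_5 (Net.cons 4 um5_6 (Net.cons 8 um5_7 (Net.cons 16 um5_8 (Net.nil)))))))))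

def W19 : List (List Nat) := [[9], [11]]

def um6_0 : Nat := nat_lit 0xc7
def um6_1 : Nat := nat_lit 0x47
def um6_2 : Nat := nat_lit 0x40107
def um6_3 : Nat := nat_lit 0x203202
def um6_4 : Nat := nat_lit 0x44411
def um6_5 : Nat := nat_lit 0x110
def um6_6 : Nat := nat_lit 0x40401
def um6_7 : Nat := nat_lit 0x1a
def um6_8 : Nat := nat_lit 0xd7
def un6 : Net := Net.cons 16 um6_0 (Net.cons 8 um6_1 (Net.cons 4 um6_2 (Net.cons 2 um6_3 (Net.cons 1 um6_4 (Net.cons 2 um6_5 (Net.cons 4 um6_6 (Net.cons 8 um6_7 (Net.cons 16 um6_8 (Net.nil)))))))))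

def um7_0 : Nat := nat_lit 0x44f3
def um7_1 : Nat := nat_lit 0x400010
def um7_2 : Nat := nat_lit 0x30d
def um7_3 : Nat := nat_lit 0x102002
def um7_4 : Nat := nat_lit 0x441115
def um7_5 : Nat := nat_lit 0x100220
def um7_6 : Nat := nat_lit 0xc0004
def um7_7 : Nat := nat_lit 0x40083
def um7_8 : Nat := nat_lit 0x44d3
def un7 : Net := Net.cons 16 um7_0 (Net.cons 8 um7_1 (Net.cons 4 um7_2 (Net.cons 2 um7_3 (Net.cons 1 um7_4 (Net.cons 2 um7_5 (Net.cons 4 um7_6 (Net.cons 8 um7_7 (Net.cons 16 um7_8 (Net.nil)))))))))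

def W28 : List (List Nat) := [[13], [15]]

def um8_0 : Nat := nat_lit 0x26f0
def um8_1 : Nat := nat_lit 0x3c0001
def um8_2 : Nat := nat_lit 0x6040801
def um8_3 : Nat := nat_lit 0x2210030
def um8_4 : Nat := nat_lit 0x10414010
def um8_5 : Nat := nat_lit 0x10001000
def um8_6 : Nat := nat_lit 0x4060001
def um8_7 : Nat := nat_lit 0x3c0011
def um8_8 : Nat := nat_lit 0x2630
def un8 : Net := Net.cons 16 um8_0 (Net.cons 8 um8_1 (Net.cons 4 um8_2 (Net.cons 2 um8_3 (Net.cons 1 um8_4 (Net.cons 2 um8_5 (Net.cons 4 um8_6 (Net.cons 8 um8_7 (Net.cons 16 um8_8 (Net.nil)))))))))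

def um9_0 : Nat := nat_lit 0xca
def um9_1 : Nat := nat_lit 0x19
def um9_2 : Nat := nat_lit 0x70200
def um9_3 : Nat := nat_lit 0x102030
def um9_4 : Nat := nat_lit 0x411400
def um9_5 : Nat := nat_lit 0x10000
def um9_6 : Nat := nat_lit 0x20203
def um9_7 : Nat := nat_lit 0x11
def um9_8 : Nat := nat_lit 0xca
def un9 : Net := Net.cons 16 um9_0 (Net.cons 8 um9_1 (Net.cons 4 um9_2 (Net.cons 2 um9_3 (Net.cons 1 um9_4 (Net.cons 2 um9_5 (Net.cons 4 um9_6 (Net.cons 8 um9_7 (Net.cons 16 um9_8 (Net.nil)))))))))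

def W37 : List (List Nat) := [[17], [19]]

def um10_0 : Nat := nat_lit 0x6110
def um10_1 : Nat := nat_lit 0xc100d0
def um10_2 : Nat := nat_lit 0x1020400
def um10_3 : Nat := nat_lit 0x121200
def um10_4 : Nat := nat_lit 0x10114410
def um10_5 : Nat := nat_lit 0x20110020
def um10_6 : Nat := nat_lit 0x1040400
def um10_7 : Nat := nat_lit 0xc10040
def um10_8 : Nat := nat_lit 0x6110
def un10 : Net := Net.cons 16 um10_0 (Net.cons 8 um10_1 (Net.cons 4 um10_2 (Net.cons 2 um10_3 (Net.cons 1 um10_4 (Net.cons 2 um10_5 (Net.cons 4 um10_6 (Net.cons 8 um10_7 (Net.cons 16 um10_8 (Net.nil)))))))))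

def um11_0 : Nat := nat_lit 0x6303
def um11_1 : Nat := nat_lit 0xa00088
def um11_2 : Nat := nat_lit 0x8040409
def um11_3 : Nat := nat_lit 0x2
def um11_4 : Nat := nat_lit 0x1144010
def um11_5 : Nat := nat_lit 0x2101010
def um11_6 : Nat := nat_lit 0x8040401
def um11_7 : Nat := nat_lit 0xe00088
def um11_8 : Nat := nat_lit 0x6303
def un11 : Net := Net.cons 16 um11_0 (Net.cons 8 um11_1 (Net.cons 4 um11_2 (Net.cons 2 um11_3 (Net.cons 1 um11_4 (Net.cons 2 um11_5 (Net.cons 4 um11_6 (Net.cons 8 um11_7 (Net.cons 16 um11_8 (Net.nil)))))))))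

def um12_0 : Nat := nat_lit 0xba
def um12_1 : Nat := nat_lit 0xa0
def um12_2 : Nat := nat_lit 0x602
def um12_3 : Nat := nat_lit 0x112032
def um12_4 : Nat := nat_lit 0x100550
def um12_5 : Nat := nat_lit 0x100000
def um12_6 : Nat := nat_lit 0x602
def um12_7 : Nat := nat_lit 0xa0
def um12_8 : Nat := nat_lit 0xba
def un12 : Net := Net.cons 16 um12_0 (Net.cons 8 um12_1 (Net.cons 4 um12_2 (Net.cons 2 um12_3 (Net.cons 1 um12_4 (Net.cons 2 um12_5 (Net.cons 4 um12_6 (Net.cons 8 um12_7 (Net.cons 16 um12_8 (Net.nil)))))))))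

def W47 : List (List Nat) := [[21], [23], [25]]

def W54 : List (List Nat) := [[21]]

def U : Tab := ⟨[n0, n1, un2, un3, un4, un5, un6, un7, un8, un9, un10, un11, un12], [⟨0, false, 0, 0, []⟩, ⟨0, false, 0, 0, []⟩, ⟨0, true, 0, 0, []⟩, ⟨1, false, 0, 0, []⟩, ⟨1, true, 0, 0, []⟩, ⟨2, false, 0, 0, []⟩, ⟨2, true, 0, 0, []⟩, ⟨3, false, 0, 0, []⟩, ⟨3, true, 0, 0, []⟩, ⟨4, false, 0, 0, []⟩, ⟨4, true, 0, 0, []⟩, ⟨5, false, 0, 0, []⟩, ⟨5, true, 0, 0, []⟩, ⟨6, false, 0, 0, []⟩, ⟨6, true, 0, 0, []⟩, ⟨7, false, 0, 0, []⟩, ⟨7, true, 0, 0, []⟩, ⟨8, false, 0, 0, []⟩, ⟨8, true, 0, 0, []⟩, ⟨9, false, 0, 0, []⟩, ⟨9, true, 0, 0, []⟩, ⟨10, false, 0, 0, []⟩, ⟨10, true, 0, 0, []⟩, ⟨11, false, 0, 0, []⟩, ⟨11, true, 0, 0, []⟩, ⟨12, false, 0, 0, []⟩, ⟨12, true, 0, 0, []⟩]⟩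

end Cfsg.Agent.Spor.J4P.L
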